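import Groth.Agent.ModPic.IdealMul
import Groth.Agent.Var76.RegPts
import Groth.Agent.KRR40.Pull
import Groth.Agent.Ega11.NodeSpread
import Groth.Agent.RegImm10.InterCM
import Groth.Agent.Grpd80.LocDim
import Groth.Agent.FGA29.IntNumBasic

/-! Intersection numbers of two effective Cartier divisors without common component on a CM surface. -/

set_option autoImplicit false
set_option linter.style.haveILetI false
set_option linter.unusedSectionVars false
set_option backward.isDefEq.respectTransparency.types false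

noncomputable section

universe u

open CategoryTheory CategoryTheory.Limits AlgebraicGeometry TopologicalSpace
open Groth.Agent Groth.Agent.QC70 Groth.Agent.DCK91 Groth.Agent.Div89

namespace Groth.Agent.SurfInt93

variable {X : Scheme.{u}}

section Stalks

variable (I J : X.IdealSheafData) (x : X)

theorem stalkIdeal_sup : stalkIdeal (I ⊔ J) x = stalkIdeal I x ⊔ stalkIdeal J x := by
  obtain ⟨U, hx⟩ := Div89.exists_affine_mem x
  rw [stalkIdeal_eq _ U x hx, stalkIdeal_eq _ U x hx, stalkIdeal_eq _ U x hx,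
    Scheme.IdealSheafData.ideal_sup, Pi.sup_apply, Ideal.map_sup]

theorem mul_le_left' : I * J ≤ I := (le_iff_stalkIdeal _ _).2 fun x => by
  rw [stalkIdeal_mul]; exact Ideal.mul_le_left

theorem mul_le_right' : I * J ≤ J := (le_iff_stalkIdeal _ _).2 fun x => by
  rw [stalkIdeal_mul]; exact Ideal.mul_le_right

/-- The stalk of the inclusion of an ideal module into the local ring. -/
def ιx : ((SP x).obj (ClSub.idealMod I) : Type u) →ₗ[X.presheaf.stalk x] X.presheaf.stalk x :=
  (unitStalkEquiv x).symm.toLinearMap ∘ₗ QC70.stalkLinear (ClSub.idealModι I) x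

theorem ιx_germ (U : X.Opens) (hx : x ∈ U) (m : Γ(ClSub.idealMod I, U)) :
    ιx I x (germM (ClSub.idealMod I) U x hx m) = X.presheaf.germ U x hx (OmegaSh.idealSect I U m) := by
  show (unitStalkEquiv x).symm (stalkMapM (ClSub.idealModι I) x (germM _ U x hx m)) = _
  rw [LinearEquiv.symm_apply_eq, unitStalkEquiv_germ, stalkMapM_germ]
  rfl

theorem injective_ιx : Function.Injective (ιx I x) :=
  (unitStalkEquiv x).symm.injective.comp (injective_stalkMapM_of_mono (ClSub.idealModι I) x)

theorem ιx_mem (e : ((SP x).obj (ClSub.idealMod I) : Type u)) : ιx I x e ∈ stalkIdeal I x := by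
  obtain ⟨W, hxW, m, rfl⟩ := germM_exist e
  obtain ⟨U, hxU, hUW⟩ := Div89.exists_affine_le hxW
  rw [← germM_res hUW hxU m, ιx_germ, stalkIdeal_eq I U x hxU]
  exact Ideal.mem_map_of_mem _ (Curves2.idealSect_mem_ideal I U _)

theorem range_ιx : LinearMap.range (ιx I x) = stalkIdeal I x := by
  refine le_antisymm (fun a ha => ?_) ?_
  · obtain ⟨e, rfl⟩ := ha
    exact ιx_mem I x e
  · obtain ⟨U, hx⟩ := Div89.exists_affine_mem x
    rw [stalkIdeal_eq I U x hx, Ideal.map_le_iff_le_comap]
    intro a ha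
    obtain ⟨m, hm⟩ := Curves2.exists_idealSect_of_mem I U ha
    exact ⟨germM (ClSub.idealMod I) U.1 x hx m, by rw [ιx_germ, hm]⟩

theorem ιx_idealLE (h : J ≤ I) (e : ((SP x).obj (ClSub.idealMod J) : Type u)) :
    ιx I x ((SP x).map (Var76.Reg.idealLE h) e) = ιx J x e := by
  obtain ⟨W, hxW, m, rfl⟩ := germM_exist e
  rw [SP_map_apply, stalkMapM_germ, ιx_germ, ιx_germ, Var76.Reg.idealSect_idealLE]

end Stalks

section Seq

variable (I J : X.IdealSheafData)

/-- `0 → IJ → I ⊕ J → I + J → 0`. -/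
abbrev supSeq : ShortComplex X.Modules :=
  ShortComplex.mk
    (biprod.lift (Var76.Reg.idealLE (mul_le_left' I J)) (-Var76.Reg.idealLE (mul_le_right' I J)))
    (biprod.desc (Var76.Reg.idealLE (le_sup_left : I ≤ I ⊔ J)) (Var76.Reg.idealLE (le_sup_right : J ≤ I ⊔ J)))
    (by
      rw [biprod.lift_desc, ← cancel_mono (ClSub.idealModι (I ⊔ J)), Preadditive.add_comp,
        Preadditive.neg_comp, Preadditive.neg_comp, zero_comp, Category.assoc, Category.assoc,
        Var76.Reg.idealLE_ι, Var76.Reg.idealLE_ι, Var76.Reg.idealLE_ι, Var76.Reg.idealLE_ι, add_neg_cancel])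

theorem shortExact_supSeq (h : ∀ x, stalkIdeal I x ⊓ stalkIdeal J x ≤ stalkIdeal (I * J) x) :
    (supSeq I J).ShortExact := by
  refine KRR40.shortExact_of_stalks _ fun x => ?_
  let P := ClSub.idealMod I
  let Q := ClSub.idealMod J
  let F := SP x
  haveI : F.Additive := inferInstance
  have hfst : ∀ m, F.map (biprod.fst : P ⊞ Q ⟶ P) (F.map (supSeq I J).f m) =
      F.map (Var76.Reg.idealLE (mul_le_left' I J)) m := fun m => by
    have := F.map_comp (supSeq I J).f (biprod.fst : P ⊞ Q ⟶ P)
    rw [show (supSeq I J).f ≫ (biprod.fst : P ⊞ Q ⟶ P) = Var76.Reg.idealLE (mul_le_left' I J) from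
      biprod.lift_fst _ _] at this
    exact congr($this m).symm
  have hsnd : ∀ m, F.map (biprod.snd : P ⊞ Q ⟶ Q) (F.map (supSeq I J).f m) =
      -(F.map (Var76.Reg.idealLE (mul_le_right' I J)) m) := fun m => by
    have := F.map_comp (supSeq I J).f (biprod.snd : P ⊞ Q ⟶ Q)
    rw [show (supSeq I J).f ≫ (biprod.snd : P ⊞ Q ⟶ Q) = -Var76.Reg.idealLE (mul_le_right' I J) from
      biprod.lift_snd _ _, Functor.map_neg] at this
    exact congr($this m).symm
  have hdec : ∀ e : (F.obj (P ⊞ Q) : Type u),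
      e = F.map (biprod.inl : P ⟶ P ⊞ Q) (F.map biprod.fst e) +
        F.map (biprod.inr : Q ⟶ P ⊞ Q) (F.map biprod.snd e) := fun e => by
    have := congrArg (fun φ => F.map φ) (biprod.total (X := P) (Y := Q))
    simp only [Functor.map_add, Functor.map_comp, CategoryTheory.Functor.map_id] at this
    exact congr($this e).symm
  have hinl : ∀ a, F.map (supSeq I J).g (F.map (biprod.inl : P ⟶ P ⊞ Q) a) =
      F.map (Var76.Reg.idealLE (le_sup_left : I ≤ I ⊔ J)) a := fun a => by
    have := F.map_comp (biprod.inl : P ⟶ P ⊞ Q) (supSeq I J).g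
    rw [show (biprod.inl : P ⟶ P ⊞ Q) ≫ (supSeq I J).g = Var76.Reg.idealLE (le_sup_left : I ≤ I ⊔ J) from
      biprod.inl_desc _ _] at this
    exact congr($this a).symm
  have hinr : ∀ b, F.map (supSeq I J).g (F.map (biprod.inr : Q ⟶ P ⊞ Q) b) =
      F.map (Var76.Reg.idealLE (le_sup_right : J ≤ I ⊔ J)) b := fun b => by
    have := F.map_comp (biprod.inr : Q ⟶ P ⊞ Q) (supSeq I J).g
    rw [show (biprod.inr : Q ⟶ P ⊞ Q) ≫ (supSeq I J).g = Var76.Reg.idealLE (le_sup_right : J ≤ I ⊔ J) from
      biprod.inr_desc _ _] at this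
    exact congr($this b).symm
  refine { exact := (ShortComplex.moduleCat_exact_iff _).2 fun e he => ?_,
           mono_f := (ModuleCat.mono_iff_injective _).2 fun m m' hm => ?_,
           epi_g := (ModuleCat.epi_iff_surjective _).2 fun z => ?_ }
  · change (F.obj (P ⊞ Q) : Type u) at e
    have he' : F.map (supSeq I J).g e = 0 := he
    let a := F.map (biprod.fst : P ⊞ Q ⟶ P) e
    let b := F.map (biprod.snd : P ⊞ Q ⟶ Q) e
    have hab : ιx I x a + ιx J x b = 0 := by
      have h0 := congrArg (ιx (I ⊔ J) x) he'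
      rw [hdec e, map_add, hinl, hinr, map_add, ιx_idealLE, ιx_idealLE, map_zero] at h0
      exact h0
    have hmem : ιx I x a ∈ stalkIdeal (I * J) x := h x ⟨ιx_mem I x a, by
      rw [eq_neg_of_add_eq_zero_left hab]
      exact neg_mem (ιx_mem J x b)⟩
    rw [← range_ιx] at hmem
    obtain ⟨m, hm⟩ := hmem
    refine ⟨m, ?_⟩
    show F.map (supSeq I J).f m = e
    rw [hdec (F.map (supSeq I J).f m), hfst, hsnd]
    refine Eq.trans ?_ (hdec e).symm
    have e1 : F.map (Var76.Reg.idealLE (mul_le_left' I J)) m = a :=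
      injective_ιx I x (by rw [ιx_idealLE, hm])
    have e2 : -(F.map (Var76.Reg.idealLE (mul_le_right' I J)) m) = b :=
      injective_ιx J x (by rw [map_neg, ιx_idealLE, hm]; exact neg_eq_of_add_eq_zero_right hab)
    rw [e1, e2]
  · have h1 := congrArg (F.map (biprod.fst : P ⊞ Q ⟶ P)) hm
    replace h1 : F.map (biprod.fst : P ⊞ Q ⟶ P) (F.map (supSeq I J).f m) =
      F.map (biprod.fst : P ⊞ Q ⟶ P) (F.map (supSeq I J).f m') := h1
    rw [hfst, hfst] at h1
    exact injective_ιx _ x ((ιx_idealLE _ _ x (mul_le_left' I J) m).symm.trans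
      ((congrArg (ιx I x) h1).trans (ιx_idealLE _ _ x (mul_le_left' I J) m')))
  · have hz : ιx (I ⊔ J) x z ∈ stalkIdeal I x ⊔ stalkIdeal J x := stalkIdeal_sup I J x ▸ ιx_mem _ x z
    obtain ⟨p, hp, q, hq, hpq⟩ := Submodule.mem_sup.1 hz
    rw [← range_ιx] at hp hq
    obtain ⟨a, rfl⟩ := hp
    obtain ⟨b, rfl⟩ := hq
    refine ⟨F.map (biprod.inl : P ⟶ P ⊞ Q) a + F.map (biprod.inr : Q ⟶ P ⊞ Q) b, ?_⟩
    show F.map (supSeq I J).g _ = z
    apply injective_ιx (I ⊔ J) x
    rw [map_add, hinl, hinr, map_add, ιx_idealLE, ιx_idealLE, hpq]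

end Seq

section Local

/-- In a two-dimensional CM local ring two elements with `m`-primary span meet only in their product. -/
theorem inf_le_mul {R : Type u} [CommRing R] [LocCoh.IsCohenMacaulayLocalRing R] (f g : R)
    (hf : f ∈ IsLocalRing.maximalIdeal R) (hg : g ∈ IsLocalRing.maximalIdeal R)
    (hdim : ((2 : ℕ) : WithBot ℕ∞) ≤ ringKrullDim R)
    (hprim : ∀ q : Ideal R, q.IsPrime → f ∈ q → g ∈ q → q = IsLocalRing.maximalIdeal R) :
    Ideal.span {f} ⊓ Ideal.span {g} ≤ Ideal.span {f} * Ideal.span {g} := by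
  have hreg := RegImm10.InterCM.weaklyRegular_append [f] [g] (List.forall_mem_cons.2 ⟨hf, List.forall_mem_singleton.2 hg⟩) fun q hq => by
    have h1 : f ∈ q.asIdeal := hq (Ideal.subset_span (by simp))
    have h2 : g ∈ q.asIdeal := hq (Ideal.subset_span (by simp))
    rw [hprim q.asIdeal q.2 h1 h2, IsLocalRing.maximalIdeal_height_eq_ringKrullDim]
    exact hdim
  rw [List.singleton_append, RingTheory.Sequence.isWeaklyRegular_cons_iff,
    RingTheory.Sequence.isWeaklyRegular_singleton_iff] at hreg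
  intro a ⟨haf, hag⟩
  obtain ⟨s, rfl⟩ := Ideal.mem_span_singleton.1 hag
  have hs : Submodule.Quotient.mk s = (0 : QuotSMulTop f R) := by
    refine (isSMulRegular_iff_right_eq_zero_of_smul.1 hreg.2) _ ?_
    rw [← Submodule.Quotient.mk_smul, Submodule.Quotient.mk_eq_zero, smul_eq_mul,
      Submodule.mem_smul_pointwise_iff_exists]
    obtain ⟨r, hr⟩ := Ideal.mem_span_singleton.1 haf
    exact ⟨r, trivial, hr.symm⟩
  rw [Submodule.Quotient.mk_eq_zero, Submodule.mem_smul_pointwise_iff_exists] at hs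
  obtain ⟨t, -, rfl⟩ := hs
  rw [Ideal.span_singleton_mul_span_singleton, Ideal.mem_span_singleton]
  exact ⟨t, by rw [smul_eq_mul]; ring⟩

end Local

section Dim

variable {k : Type u} [Field k]

theorem two_le_dim_stalk (f : X ⟶ Spec (.of k)) [LocallyOfFiniteType f]
    (hdim : ∀ Z ∈ irreducibleComponents (X : Type u), topologicalKrullDim Z = 2)
    (x : X) (hx : IsClosed ({x} : Set X)) : ((2 : ℕ) : WithBot ℕ∞) ≤ ringKrullDim (X.presheaf.stalk x) := by
  have h := Grpd80.LocDim.localDim_eq_tdegN_add f x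
  rw [Grpd80.LocDim.tdegN_eq_zero_of_isClosed f hx, Nat.cast_zero, zero_add] at h
  rw [← h]
  have hZ := irreducibleComponent_mem_irreducibleComponents x
  obtain ⟨η, hη⟩ : ∃ η, IsGenericPoint η (irreducibleComponent x) :=
    QuasiSober.sober isIrreducible_irreducibleComponent isClosed_irreducibleComponent
  have hd := hdim _ hZ
  rw [← hη.def, WC97.topologicalKrullDim_closure f η] at hd
  have hspec : η ⤳ x := hη.specializes mem_irreducibleComponent
  have h1 : FlatMor.localDim X η ≤ FlatMor.localDim X x :=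
    le_iInf fun U => TopDim50.localDim_le U.1 (hspec.mem_open U.1.isOpen U.2)
  refine le_trans ?_ h1
  rw [Grpd80.LocDim.localDim_eq_tdegN_add f η]
  refine le_trans ?_ (le_add_of_nonneg_right ringKrullDim_nonneg_of_nontrivial)
  exact hd.symm.le

theorem isClosed_of_mem_finite [JacobsonSpace X] {Z : Set X} (hZc : IsClosed Z) (hZ : Z.Finite) {x : X}
    (hx : x ∈ Z) : IsClosed ({x} : Set X) := by
  have hsub : closure ({x} : Set X) ⊆ Z := closure_minimal (Set.singleton_subset_iff.2 hx) hZc
  have hcl : IsClosed (closure ({x} : Set X) ∩ closedPoints X) := by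
    rw [← Set.biUnion_of_singleton (closure ({x} : Set X) ∩ closedPoints X)]
    exact (hZ.subset (Set.inter_subset_left.trans hsub)).isClosed_biUnion fun y hy => hy.2
  have h := JacobsonSpace.closure_inter_closedPoints (X := X) (isClosed_closure (s := ({x} : Set X)))
  rw [hcl.closure_eq] at h
  exact (h.ge (subset_closure rfl) : x ∈ closure {x} ∩ closedPoints X).2

theorem stalk_inf_le (f : X ⟶ Spec (.of k)) [LocallyOfFiniteType f]
    (hdim : ∀ Z ∈ irreducibleComponents (X : Type u), topologicalKrullDim Z = 2)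
    (hCM : ∀ x : X, LocCoh.IsCohenMacaulayLocalRing (X.presheaf.stalk x))
    {I J : X.IdealSheafData} (hI : BlowUp.IsEffCartierIdeal I) (hJ : BlowUp.IsEffCartierIdeal J)
    (hfin : ((I ⊔ J).support : Set X).Finite) (x : X) :
    stalkIdeal I x ⊓ stalkIdeal J x ≤ stalkIdeal (I * J) x := by
  rw [stalkIdeal_mul]
  by_cases hxI : x ∈ I.support
  swap
  · rw [(notMem_support_iff_stalkIdeal I x).1 hxI, Ideal.top_mul]; exact inf_le_right
  by_cases hxJ : x ∈ J.support
  swap
  · rw [(notMem_support_iff_stalkIdeal J x).1 hxJ, Ideal.mul_top]; exact inf_le_left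
  haveI := hCM x
  obtain ⟨U, hxU, a, -, ha⟩ := hI x
  obtain ⟨V, hxV, b, -, hb⟩ := hJ x
  rw [mem_support_iff_stalkIdeal] at hxI hxJ
  have hIa : stalkIdeal I x = Ideal.span {X.presheaf.germ U.1 x hxU a} := by
    rw [stalkIdeal_eq I U x hxU, ha, Ideal.map_span, Set.image_singleton]
  have hJb : stalkIdeal J x = Ideal.span {X.presheaf.germ V.1 x hxV b} := by
    rw [stalkIdeal_eq J V x hxV, hb, Ideal.map_span, Set.image_singleton]
  have hxS : x ∈ (I ⊔ J).support := by
    rw [mem_support_iff_stalkIdeal, stalkIdeal_sup]; exact sup_le hxI hxJ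
  haveI : JacobsonSpace X := LocallyOfFiniteType.jacobsonSpace f
  have hcl := fun z (hz : z ∈ ((I ⊔ J).support : Set X)) =>
    isClosed_of_mem_finite (I ⊔ J).support.isClosed hfin hz
  rw [hIa] at hxI ⊢
  rw [hJb] at hxJ ⊢
  refine inf_le_mul _ _ (hxI (Ideal.mem_span_singleton_self _)) (hxJ (Ideal.mem_span_singleton_self _))
    (two_le_dim_stalk f hdim x (hcl x hxS)) fun q hq haq hbq => ?_
  have hle : stalkIdeal (I ⊔ J) x ≤ q := by
    rw [stalkIdeal_sup, hIa, hJb]
    exact sup_le ((Ideal.span_singleton_le_iff_mem _).2 haq) ((Ideal.span_singleton_le_iff_mem _).2 hbq)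
  rw [stalkIdeal_eq _ U x hxU, Ideal.map_le_iff_le_comap] at hle
  letI := stalkAlg U.1 x hxU
  haveI := isLocalization_stalk U x hxU
  haveI : (q.comap (X.presheaf.germ U.1 x hxU).hom).IsPrime := Ideal.comap_isPrime _ _
  obtain ⟨z, hzU, hz⟩ := Div89.exists_point U (q.comap (X.presheaf.germ U.1 x hxU).hom)
  have hzS : z ∈ (I ⊔ J).support := by rw [mem_support_iff_le _ U z hzU, hz]; exact hle
  have hp : q.comap (X.presheaf.germ U.1 x hxU).hom ≤ primeAt U x hxU := by
    refine (Ideal.comap_mono (IsLocalRing.le_maximalIdeal hq.ne_top)).trans (le_of_eq ?_)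
    exact IsLocalization.AtPrime.under_maximalIdeal (X.presheaf.stalk x) (primeAt U x hxU)
  have hspec : z ⤳ x := (specializes_iff_primeAt_le U hxU hzU).2 (hz.symm ▸ hp)
  obtain rfl : x = z := Set.mem_singleton_iff.1 ((hcl z hzS).closure_eq ▸ specializes_iff_mem_closure.1 hspec)
  refine le_antisymm (IsLocalRing.le_maximalIdeal hq.ne_top) ?_
  rw [← IsLocalization.AtPrime.map_eq_maximalIdeal (primeAt U x hxU) (X.presheaf.stalk x)]
  exact Ideal.map_le_iff_le_comap.2 hz.le

end Dim

section Main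

variable (k : Type u) [Field k] [X.Over (Spec (CommRingCat.of k))]
  [IsProper (X ↘ (Spec (CommRingCat.of k)))]

theorem dim_le_two (hdim : ∀ Z ∈ irreducibleComponents (X : Type u), topologicalKrullDim Z = 2) :
    topologicalKrullDim X ≤ ((2 : ℕ) : WithBot ℕ∞) := by
  rw [TopDim50.dim_eq_iSup_irreducibleComponents]
  exact iSup₂_le fun Z hZ => (hdim Z hZ).le

theorem main (hdim : ∀ Z ∈ irreducibleComponents (X : Type u), topologicalKrullDim Z = 2)
    (hCM : ∀ x : X, LocCoh.IsCohenMacaulayLocalRing (X.presheaf.stalk x))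
    (I J : X.IdealSheafData) (hI : FGA.IsEffCartier I) (hJ : FGA.IsEffCartier J)
    (hfin : ((I ⊔ J).support : Set X).Finite) :
    FGA.intNum k X 2 ![ClSub.idealMod I, ClSub.idealMod J] (Coh.structureModule X) =
      (Module.finrank k (Coh.HH X (ClSub.quotMod (I ⊔ J)) 0) : ℤ) := by
  haveI := Crv77.isNoetherian_of_proper k X
  have hdX := dim_le_two hdim
  have hIv : PicF.IsInvertible (ClSub.idealMod I) := (Curves2.isInvertible_idealMod_iff I).2 hI
  have hJv : PicF.IsInvertible (ClSub.idealMod J) := (Curves2.isInvertible_idealMod_iff J).2 hJ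
  have hM : ∀ i, PicF.IsInvertible (![ClSub.idealMod I, ClSub.idealMod J] i) :=
    fun i => by fin_cases i <;> assumption
  rw [FGA29.intNum_eq_intE k hdX hM Crv77.isCoh_structureModule,
    show ![ClSub.idealMod I, ClSub.idealMod J] = Fin.cons (ClSub.idealMod I) (Fin.cons (ClSub.idealMod J) ![]) from rfl,
    FGA29.intE_cons, FGA29.intE_cons, FGA29.intE_cons, FGA29.intE_zero, FGA29.intE_zero, FGA29.intE_zero,
    FGA29.intE_zero]
  open scoped Groth.Agent.FGA29 in
  have e1 : Curv2.euler k X (CohB1.tensorMod (Coh.structureModule X) (ClSub.idealMod I)) =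
      Curv2.euler k X (ClSub.idealMod I) := FGA29.euler_cl k (by rw [FGA29.cl_tensor, FGA29.cl_one, one_mul])
  open scoped Groth.Agent.FGA29 in
  have e2 : Curv2.euler k X (CohB1.tensorMod (Coh.structureModule X) (ClSub.idealMod J)) =
      Curv2.euler k X (ClSub.idealMod J) := FGA29.euler_cl k (by rw [FGA29.cl_tensor, FGA29.cl_one, one_mul])
  open scoped Groth.Agent.FGA29 in
  have e3 : Curv2.euler k X
      (CohB1.tensorMod (CohB1.tensorMod (Coh.structureModule X) (ClSub.idealMod I)) (ClSub.idealMod J)) =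
      Curv2.euler k X (ClSub.idealMod (I * J)) :=
    FGA29.euler_cl k (by rw [FGA29.cl_tensor, FGA29.cl_tensor, FGA29.cl_one, one_mul, ModPic.cl_idealMod_mul hI hJ])
  rw [e1, e2, e3]
  have hsup := Snapper75.euler_add k (shortExact_supSeq I J
      (stalk_inf_le (X ↘ (Spec (CommRingCat.of k))) hdim hCM hI hJ hfin))
    (Crv77.isCoh_idealMod _) (Ega11.NodeSpread.isCoh_biprod _ _ (Crv77.isCoh_idealMod _) (Crv77.isCoh_idealMod _))
    (Crv77.isCoh_idealMod _)
  have hbi := Snapper75.euler_add k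
    (S := ShortComplex.mk (biprod.inl : ClSub.idealMod I ⟶ ClSub.idealMod I ⊞ ClSub.idealMod J) biprod.snd biprod.inl_snd)
    (ShortComplex.Splitting.shortExact { r := biprod.fst, s := biprod.inr })
    (Crv77.isCoh_idealMod _) (Ega11.NodeSpread.isCoh_biprod _ _ (Crv77.isCoh_idealMod _) (Crv77.isCoh_idealMod _))
    (Crv77.isCoh_idealMod _)
  have hq := Snapper75.euler_add k (Crv77.idealSeq_shortExact (I ⊔ J)) (Crv77.isCoh_idealMod _)
    Crv77.isCoh_structureModule (Crv77.isCoh_quotMod _)
  have h0 : Curv2.euler k X (ClSub.quotMod (I ⊔ J)) =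
      (Module.finrank k (Coh.HH X (ClSub.quotMod (I ⊔ J)) 0) : ℤ) := by
    haveI : JacobsonSpace X := LocallyOfFiniteType.jacobsonSpace (X ↘ (Spec (CommRingCat.of k)))
    haveI : Finite ((I ⊔ J).support : Set X) := hfin.to_subtype
    haveI : T1Space ((I ⊔ J).support : Set X) := ⟨fun z => by
      have h := (isClosed_of_mem_finite (I ⊔ J).support.isClosed hfin z.2).preimage
        (continuous_subtype_val (p := fun w => w ∈ ((I ⊔ J).support : Set X)))
      convert h using 1
      ext w
      exact Subtype.ext_iff⟩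
    have hb : Crv77.FinBdd k (ClSub.quotMod (I ⊔ J)) 1 :=
      ⟨fun m => Serre71.finite_hh_of_isProper k _ (Crv77.isCoh_quotMod _) m,
        fun m hm => Var76.subsingleton_HH_of_support _ (I ⊔ J).support.isClosed (Crv77.suppIn_quotMod _)
          (topologicalKrullDim_zero_of_discreteTopology _) m (by omega)⟩
    rw [hb.euler_eq, Finset.sum_range_one, pow_zero, one_mul]
  simp only at hsup
  simp only [Crv77.idealSeq] at hq
  simp only at hbi
  change Curv2.euler k X (Coh.structureModule X) = _ at hq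
  linarith

end Main

end Groth.Agent.SurfInt93
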