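import Groth.Agent.QC70.Devissage
import Groth.Agent.QC70.Ideal
import Groth.Agent.Div89.BlowUp
import Groth.Agent.SurfInt93.Inter
import Groth.Agent.Mero90.Frames

/-! The stalks of `M / J·M`. -/

set_option autoImplicit false
set_option linter.style.haveILetI false
set_option backward.isDefEq.respectTransparency.types false

noncomputable section

universe u

open CategoryTheory CategoryTheory.Limits AlgebraicGeometry TopologicalSpace
open Groth.Agent Groth.Agent.QC70 Groth.Agent.Div89

namespace Groth.Agent.SurfInt93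

variable {X : Scheme.{u}} (J : X.IdealSheafData) (M : X.Modules) [M.IsQuasicoherent] (x : X)

theorem range_stalk_idealMulι :
    LinearMap.range (QC70.stalkLinear (Dual3.idealMulι J M) x) =
      stalkIdeal J x • (⊤ : Submodule (X.presheaf.stalk x) (M.presheaf.stalk x)) := by
  refine le_antisymm ?_ (Submodule.smul_le.2 fun r hr m _ => ?_)
  · rintro _ ⟨e, rfl⟩
    obtain ⟨W, hxW, c, rfl⟩ := germM_exist e
    obtain ⟨U, hxU, hUW⟩ := Div89.exists_affine_le hxW
    show stalkMapM _ x _ ∈ _
    rw [← germM_res hUW hxU c, stalkMapM_germ]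
    have h1 := (mem_idealMul_iff J M U _).1 ⟨QC70.res _ hUW c, rfl⟩
    refine Submodule.smul_induction_on (p := fun z => germM M U.1 x hxU z ∈
      stalkIdeal J x • (⊤ : Submodule (X.presheaf.stalk x) (M.presheaf.stalk x))) h1
      (fun a ha z _ => ?_) (fun z z' hz hz' => by rw [germM_add]; exact add_mem hz hz')
    rw [germM_smul]
    exact Submodule.smul_mem_smul (stalkIdeal_eq J U x hxU ▸ Ideal.mem_map_of_mem _ ha) Submodule.mem_top
  · obtain ⟨W, hxW, s, rfl⟩ := germM_exist m
    obtain ⟨U, hxU, hUW⟩ := Div89.exists_affine_le hxW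
    rw [← germM_res hUW hxU s]
    rw [stalkIdeal_eq J U x hxU] at hr
    refine Submodule.span_induction (p := fun z _ => z • germM M U.1 x hxU (QC70.res M hUW s) ∈
      LinearMap.range (QC70.stalkLinear (Dual3.idealMulι J M) x)) ?_ ?_ ?_ ?_ hr
    · rintro _ ⟨a, ha, rfl⟩
      obtain ⟨c, hc⟩ := (mem_idealMul_iff J M U (a • QC70.res M hUW s)).2
        (Submodule.smul_mem_smul ha Submodule.mem_top)
      refine ⟨germM _ U.1 x hxU c, ?_⟩
      show stalkMapM _ x _ = _
      rw [stalkMapM_germ, hc, germM_smul]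
    · rw [zero_smul]; exact zero_mem _
    · intro a b _ _ ha hb; rw [add_smul]; exact add_mem ha hb
    · intro a b _ hb; rw [smul_assoc]; exact Submodule.smul_mem _ a hb

/-- The stalk of `M/JM` is `M_x / J_x M_x`. -/
def quotSCStalk : (M.presheaf.stalk x ⧸
      (stalkIdeal J x • ⊤ : Submodule (X.presheaf.stalk x) (M.presheaf.stalk x)))
      ≃ₗ[X.presheaf.stalk x] (quotSC J M).X₃.presheaf.stalk x :=
  (Submodule.quotEquivOfEq _ _ (by
    rw [← range_stalk_idealMulι J M x]
    ext e
    show _ ↔ stalkMapM (quotSC J M).g x e = 0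
    constructor
    · rintro ⟨d, rfl⟩
      obtain ⟨W, hxW, c, rfl⟩ := germM_exist d
      show stalkMapM (quotSC J M).g x (stalkMapM (quotSC J M).f x _) = 0
      show stalkMapM (quotSC J M).g x (stalkMapM (quotSC J M).f x (germM (quotSC J M).X₁ W x hxW c)) = 0
      refine (congrArg (stalkMapM (quotSC J M).g x) (stalkMapM_germ (quotSC J M).f hxW c)).trans ?_
      refine (stalkMapM_germ (quotSC J M).g hxW _).trans ?_
      rw [QC70.app_f_g (quotSC J M) _ c]
      exact germM_zero hxW
    · intro h
      haveI : Mono (quotSC J M).f := (quotSC_shortExact J M).mono_f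
      exact stalkMapM_exact (quotSC J M) (quotSC_shortExact J M).exact x e h)).trans
  (LinearMap.quotKerEquivOfSurjective (QC70.stalkLinear (quotSC J M).g x)
    (haveI : Epi (quotSC J M).g := (quotSC_shortExact J M).epi_g
     surjective_stalkMapM_of_epi (quotSC J M).g x))

/-- For invertible `M` the length of the stalk of `M/JM` is that of `O_x/J_x`. -/
theorem length_stalk_quotSC (hM : PicF.IsInvertible M) :
    Module.length (X.presheaf.stalk x) ((quotSC J M).X₃.presheaf.stalk x) =
      Module.length (X.presheaf.stalk x) (X.presheaf.stalk x ⧸ stalkIdeal J x) := by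
  obtain ⟨U, hxU, e, he⟩ := Mero90.exists_frame' hM x
  let φ : X.presheaf.stalk x ≃ₗ[X.presheaf.stalk x] M.presheaf.stalk x :=
    LinearEquiv.ofBijective (LinearMap.toSpanSingleton _ _ (germM M U x hxU e))
      (Mero90.frame_germ_bijective he ⟨x, hxU⟩)
  rw [← (quotSCStalk J M x).length_eq]
  refine (LinearEquiv.length_eq (Submodule.Quotient.equiv (stalkIdeal J x)
    (stalkIdeal J x • ⊤ : Submodule (X.presheaf.stalk x) (M.presheaf.stalk x)) φ ?_)).symm
  have h1 : (stalkIdeal J x • ⊤ : Submodule (X.presheaf.stalk x) (X.presheaf.stalk x)) = stalkIdeal J x := by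
    rw [smul_eq_mul, Ideal.mul_top]
  refine (congrArg (Submodule.map φ.toLinearMap) h1.symm).trans ?_
  rw [Submodule.map_smul'', Submodule.map_top, LinearEquiv.range]

end Groth.Agent.SurfInt93

end
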