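import Groth.Agent.SurfInt93.RegLen
import Groth.Agent.SurfInt93.QuotStalk
import Groth.Agent.RegImm10.BlowCech.Pushed
import Groth.Agent.RegImm10.StalkRegular
import Groth.Agent.Crv77.PointDeg
import Groth.Agent.VarMods75.ZeroDim
import Groth.Agent.Res23.BlowProper
import Groth.Agent.Curves2.CurveToolkit
import Groth.Agent.ArS10.BlowPointReg
import Groth.Agent.ArS10.BlowChartPoint
import Groth.Agent.ArS10.PrincipalAlg

/-! Euler characteristics on the blow-up of a closed point of a regular surface. -/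

set_option autoImplicit false
set_option linter.style.haveILetI false
set_option linter.unusedSectionVars false
set_option backward.isDefEq.respectTransparency.types false

noncomputable section

universe u

open CategoryTheory CategoryTheory.Limits AlgebraicGeometry TopologicalSpace IsLocalRing
open Groth.Agent Groth.Agent.QC70 Groth.Agent.Div89
open Groth.Agent.RegImm10 (BlowCech.HasGens BlowCech.pullMul)

attribute [local instance] Curv2.resAlgebra

namespace Groth.Agent.SurfInt93.PointBlow

variable {X X' : Scheme.{u}} {x : X} (hx : IsClosed ({x} : Set X))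

/-- A closed point with two-dimensional regular local ring is cut out by two Koszul regular functions. -/
theorem hasGens_two [IsLocallyNoetherian X] (hR : IsRegularLocalRing (X.presheaf.stalk x))
    (hdim : ringKrullDim (X.presheaf.stalk x) = 2) :
    BlowCech.HasGens (Crv77.ptIdeal hx) 2 := by
  classical
  refine RegImm10.BlowCech.hasGens_of_support (by norm_num) fun z hz => ?_
  have hzx : z ∈ ({x} : Set X) := (Crv77.ptIdeal_support hx).le hz
  rw [Set.mem_singleton_iff] at hzx
  subst hzx
  obtain ⟨U, hzU⟩ := Div89.exists_affine_mem z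
  haveI : IsNoetherianRing Γ(X, U.1) := IsLocallyNoetherian.component_noetherian U
  let p := (U.2.primeIdealOf ⟨z, hzU⟩).asIdeal
  letI : Algebra Γ(X, U.1) (X.presheaf.stalk z) := X.presheaf.algebra_section_stalk ⟨z, hzU⟩
  haveI : IsLocalization.AtPrime (X.presheaf.stalk z) p := U.2.isLocalization_stalk ⟨z, hzU⟩
  let I := (Crv77.ptIdeal hx).ideal U
  have hmap : I.map (algebraMap Γ(X, U.1) (X.presheaf.stalk z)) = maximalIdeal (X.presheaf.stalk z) := by
    rw [← Curves2.stalkIdeal_ptIdeal hx, Div89.stalkIdeal_eq _ U z hzU]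
    rfl
  have hIp : I ≤ p := by
    intro a ha
    have h1 : algebraMap Γ(X, U.1) (X.presheaf.stalk z) a ∈ maximalIdeal (X.presheaf.stalk z) :=
      hmap ▸ Ideal.mem_map_of_mem _ ha
    exact (IsLocalization.AtPrime.to_map_mem_maximal_iff _ p a).1 h1
  obtain ⟨a, b, hab, hreg⟩ := exists_params_two (X.presheaf.stalk z) hdim
  have hCI : CInt.IsRegularIdeal (maximalIdeal (X.presheaf.stalk z)) :=
    ⟨[a, b], hreg, by rw [← hab, Ideal.ofList]; congr 1; ext w; simp⟩
  obtain ⟨g, hg, rs, h⟩ := RegImm10.StalkRegular.exists_regular_gen_away p I hIp (X.presheaf.stalk z)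
    (hmap.symm ▸ hCI)
  letI : Algebra Γ(X, U.1) Γ(X, X.basicOpen g) :=
    (X.presheaf.map (homOfLE (X.basicOpen_le g)).op).hom.toAlgebra
  obtain ⟨hrs, hI⟩ := h Γ(X, X.basicOpen g) (U.2.isLocalization_basicOpen g)
  have hzg : z ∈ X.basicOpen g := by
    rw [X.mem_basicOpen g z hzU]
    exact (IsLocalization.AtPrime.isUnit_to_map_iff (X.presheaf.stalk z) p g).2 hg
  let l := rs.map (algebraMap Γ(X, U.1) Γ(X, X.basicOpen g))
  have hIV : (Crv77.ptIdeal hx).ideal (X.affineBasicOpen g) = Ideal.ofList l :=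
    ((Crv77.ptIdeal hx).map_ideal_basicOpen U g).symm.trans hI
  refine ⟨X.affineBasicOpen g, hzg, l, ?_, Koszul19.kR_of_isWeaklyRegular l hrs.1, hIV⟩
  by_contra hlen
  have h2 : maximalIdeal (X.presheaf.stalk z) =
      Ideal.span (((X.presheaf.germ (X.basicOpen g) z hzg).hom '' {r | r ∈ l})) := by
    rw [← Curves2.stalkIdeal_ptIdeal hx, Div89.stalkIdeal_eq _ (X.affineBasicOpen g) z hzg, hIV,
      Ideal.ofList]
    exact Ideal.map_span _ _
  have h3 := spanFinrank_eq_two _ hdim
  have hfin : ((X.presheaf.germ (X.basicOpen g) z hzg).hom '' {r | r ∈ l}).Finite :=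
    (l.finite_toSet).image _
  have h4 := Submodule.spanFinrank_span_le_ncard_of_finite (R := X.presheaf.stalk z) hfin
  replace h4 : (maximalIdeal (X.presheaf.stalk z)).spanFinrank ≤ _ := (congrArg Submodule.spanFinrank h2).le.trans h4
  rw [h3] at h4
  have h5 : ({r | r ∈ l} : Set _).ncard ≤ l.length := by
    rw [show ({r | r ∈ l} : Set _) = (l.toFinset : Set _) by ext; simp, Set.ncard_coe_finset]
    exact l.toFinset_card_le
  have h6 := (Set.ncard_image_le l.finite_toSet (f := (X.presheaf.germ (X.basicOpen g) z hzg).hom))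
  exact hlen (h4.trans (h6.trans h5))

/-- The blow-up of such a point has dimension at most two. -/
theorem dim_blowUp_le (hreg : ∀ y : X, IsRegularLocalRing (X.presheaf.stalk y))
    (hdim : ringKrullDim (X.presheaf.stalk x) = 2) (hdX : topologicalKrullDim X ≤ ((2 : ℕ) : WithBot ℕ∞))
    [IsLocallyNoetherian X] (π : X' ⟶ X) (hπ : BlowUp.IsBlowUp π (Crv77.ptIdeal hx)) :
    topologicalKrullDim X' ≤ ((2 : ℕ) : WithBot ℕ∞) := by
  haveI : IsProper π := Res23.isProper_of_isBlowUp hπ
  haveI : IsLocallyNoetherian X' := LocallyOfFiniteType.isLocallyNoetherian π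
  have hst : ∀ z : X', ringKrullDim (X'.presheaf.stalk z) ≤ ((2 : ℕ) : WithBot ℕ∞) := fun z => by
    by_cases hz : π z = x
    · subst hz
      haveI := hreg (π z)
      haveI : IsRegularLocalRing (X'.presheaf.stalk z) := ArS10.isRegular_blowUp_point π hx hπ hreg hdim z
      obtain ⟨a, b, C, φ, t, P, hP, ψ, hab, hadj, ht, -, hdom, hinjA, haP, ⟨θ, hθ, hker⟩, hcomp, hloc'⟩ :=
        ArS10.exists_chart_point π z hx hπ hdim
      letI := φ.hom.toAlgebra
      letI := ψ.hom.toAlgebra
      haveI := hP
      haveI := hdom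
      haveI := hloc'
      haveI : IsNoetherianRing C := by
        haveI : Algebra.FiniteType (X.presheaf.stalk (π z)) C := ⟨⟨{t}, by rw [Finset.coe_singleton]; exact hadj⟩⟩
        exact Algebra.FiniteType.isNoetherianRing (X.presheaf.stalk (π z)) C
      exact ArS10.dim_le_two_of_chart P θ hθ hker haP
    · haveI := Div89.isIso_off_center hπ
      haveI : IsIso (π.stalkMap z) := by
        refine CAlg9.BirationalPoint.isIso_stalkMap_of_restrict π
          (Crv77.ptIdeal hx).support.compl z fun h => hz ?_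
        have h' : π z ∈ ((Crv77.ptIdeal hx).support : Set X) := h
        rw [Crv77.ptIdeal_support hx] at h'
        exact h'
      rw [← ringKrullDim_eq_of_ringEquiv (asIso (π.stalkMap z)).commRingCatIsoToRingEquiv]
      exact (FlatMor68.DedekindFlat.stalk_dim_le _).trans hdX
  rw [show topologicalKrullDim X' = Order.krullDim X' from
    Order.krullDim_eq_of_orderIso (irreducibleSetEquivPoints (α := X')), Order.krullDim_eq_iSup_coheight]
  refine iSup_le fun z => ?_
  have := hst z
  rwa [ringKrullDim_stalk_eq_coheight] at this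

theorem stalkIdeal_pow' (I : X.IdealSheafData) (y : X) :
    ∀ n : ℕ, stalkIdeal (I ^ n) y = stalkIdeal I y ^ n
  | 0 => by rw [pow_zero, Scheme.IdealSheafData.one_eq_top, stalkIdeal_top, pow_zero, Ideal.one_eq_top]
  | n + 1 => by rw [pow_succ, stalkIdeal_mul, stalkIdeal_pow' I y n, pow_succ]

section Euler

variable (k : Type u) [Field k] [X.Over (Spec (CommRingCat.of k))]
  [IsProper (X ↘ (Spec (CommRingCat.of k)))]

theorem dim_singleton_le : topologicalKrullDim ({x} : Set X) ≤ (0 : WithBot ℕ∞) :=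
  topologicalKrullDim_zero_of_discreteTopology _

include hx in
theorem euler_ptMod : Curv2.euler k X (Snapper75.ptMod x) = (Module.finrank k (X.residueField x) : ℤ) := by
  haveI := Crv77.isNoetherian_of_proper k X
  have e : Snapper75.ptMod x = ClSub.quotMod (Crv77.ptIdeal hx) := by
    have hC : (⟨closure ({x} : Set X), isClosed_closure⟩ : Closeds X) = ⟨{x}, hx⟩ := Closeds.ext hx.closure_eq
    show ClSub.quotMod _ = ClSub.quotMod _
    rw [hC]
  have hb : Crv77.FinBdd k (ClSub.quotMod (Crv77.ptIdeal hx)) 1 :=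
    ⟨fun m => Serre71.finite_hh_of_isProper k _ (Crv77.isCoh_quotMod _) m,
      fun m hm => Var76.subsingleton_HH_of_support _ (Crv77.ptIdeal hx).support.isClosed (Crv77.suppIn_quotMod _)
        (by rw [Crv77.ptIdeal_support hx]; exact dim_singleton_le) m (by omega)⟩
  rw [e, hb.euler_eq, Finset.sum_range_one, pow_zero, one_mul, Crv77.finrank_quot_point k hx]

/-- The Euler characteristic of `M / I^n M`. -/
theorem euler_quot {M : X.Modules} (hM : PicF.IsInvertible M) (n : ℕ) {l : ℕ}
    (hl : Module.length (X.presheaf.stalk x) (X.presheaf.stalk x ⧸ maximalIdeal (X.presheaf.stalk x) ^ n) = l) :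
    Curv2.euler k X (quotSC (Crv77.ptIdeal hx ^ n) M).X₃ = l * (Module.finrank k (X.residueField x) : ℤ) := by
  classical
  haveI := Crv77.isNoetherian_of_proper k X
  haveI := Mero90.isQCoh_of_isInvertible hM
  have hsupp : CohB1.support (quotSC (Crv77.ptIdeal hx ^ n) M).X₃ ⊆ ({x} : Set X) := fun y hy => by
    by_contra h
    exact notMem_support_pow (J := Crv77.ptIdeal hx) (by rw [Crv77.ptIdeal_support hx]; exact h) n
      (support_quot_subset_right _ M hy)
  have hT : ∀ η : X, η ∈ ({x} : Finset X) ↔ η ∈ ({x} : Set X) ∧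
      topologicalKrullDim (closure ({η} : Set X)) = ((0 : ℕ) : WithBot ℕ∞) := fun η => by
    rw [Finset.mem_singleton, Set.mem_singleton_iff]
    refine ⟨fun h => ⟨h, ?_⟩, fun h => h.1⟩
    subst h
    rw [hx.closure_eq]
    exact le_antisymm (by simpa using dim_singleton_le) (by
      haveI : Nonempty (IrreducibleCloseds ({η} : Set X)) := ⟨⟨Set.univ,
        ⟨⟨⟨η, rfl⟩, trivial⟩, Set.subsingleton_univ.isPreirreducible⟩, isClosed_univ⟩⟩
      rw [Nat.cast_zero]
      exact Order.krullDim_nonneg (α := IrreducibleCloseds ({η} : Set X)))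
  have h := VarMods75.euler_eq_sum_len k hx dim_singleton_le hT
    (isCoh_quot _ (Amp73.isCoh_of_isInvertible hM)) hsupp
  rw [Finset.sum_singleton, euler_ptMod (hx := hx) k, Snapper75.len, length_stalk_quotSC _ M x hM] at h
  rw [stalkIdeal_pow', Curves2.stalkIdeal_ptIdeal hx, hl] at h
  exact_mod_cast h

variable [X'.Over (Spec (CommRingCat.of k))] (π : X' ⟶ X)

/-- Cohomology of `π^*M ⊗ J^n` against that of `M`. -/
theorem euler_pullMul (hover : π ≫ (X ↘ (Spec (CommRingCat.of k))) = X' ↘ (Spec (CommRingCat.of k)))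
    (hR : IsRegularLocalRing (X.presheaf.stalk x)) (hdim : ringKrullDim (X.presheaf.stalk x) = 2)
    (hπ : BlowUp.IsBlowUp π (Crv77.ptIdeal hx)) {M : X.Modules} (hM : PicF.IsInvertible M) (n : ℕ) :
    Curv2.euler k X' (BlowCech.pullMul π (Crv77.ptIdeal hx) M n) =
      Curv2.euler k X M - Curv2.euler k X (quotSC (Crv77.ptIdeal hx ^ n) M).X₃ := by
  haveI := Crv77.isNoetherian_of_proper k X
  haveI := Mero90.isQCoh_of_isInvertible hM
  have hG := hasGens_two hx hR hdim
  obtain ⟨e⟩ := RegImm10.BlowCech.exists_iso_push hπ (by norm_num : 1 ≤ 2) hG hM n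
  have hcoh := QC70.isCoh_idealMul (Crv77.ptIdeal hx ^ n) (Amp73.isCoh_of_isInvertible hM)
  have hqc : ((Coh.push π).obj (BlowCech.pullMul π (Crv77.ptIdeal hx) M n)).IsQuasicoherent := by
    exact (SheafOfModules.isQuasicoherent.{u} X.ringCatSheaf).prop_of_iso e.symm hcoh.1
  have hHH : Curv2.euler k X' (BlowCech.pullMul π (Crv77.ptIdeal hx) M n) =
      Curv2.euler k X ((Dual3.idealMul (Crv77.ptIdeal hx ^ n)).obj M) := by
    refine Eq.trans ?_ (Crv77.euler_congr e)
    refine finsum_congr fun i => ?_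
    obtain ⟨φ⟩ := RegImm10.BlowCech.nonempty_hhLin_push_of_acyclic (A := k) π hover
      (BlowCech.pullMul π (Crv77.ptIdeal hx) M n) hqc _
      (fun W z hz => RegImm10.BlowCech.frameB_exists hπ hG hM W z hz)
      (fun V hV q => RegImm10.BlowCech.subsingleton_frameB hπ (by norm_num) hM n V hV q) i
    exact congrArg (fun m : ℕ => (-1 : ℤ) ^ i * (m : ℤ)) φ.finrank_eq.symm
  have h := Snapper75.euler_add k (quotSC_shortExact (Crv77.ptIdeal hx ^ n) M) hcoh
    (Amp73.isCoh_of_isInvertible hM) (isCoh_quot _ (Amp73.isCoh_of_isInvertible hM))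
  rw [hHH]
  change Curv2.euler k X M = Curv2.euler k X ((Dual3.idealMul _).obj M) + _ at h
  linarith

end Euler

open scoped Groth.Agent.FGA29 in
/-- The intersection number of two invertible modules on a scheme of dimension at most two. -/
theorem intNum_two (k : Type u) [Field k] {Y : Scheme.{u}} [Y.Over (Spec (CommRingCat.of k))]
    [IsProper (Y ↘ (Spec (CommRingCat.of k)))] (hd : topologicalKrullDim Y ≤ ((2 : ℕ) : WithBot ℕ∞))
    {A B : Y.Modules} (hA : PicF.IsInvertible A) (hB : PicF.IsInvertible B) :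
    FGA.intNum k Y 2 ![A, B] (Coh.structureModule Y) =
      Curv2.euler k Y (Coh.structureModule Y) - Curv2.euler k Y A - Curv2.euler k Y B +
        Curv2.euler k Y (CohB1.tensorMod A B) := by
  haveI := Crv77.isNoetherian_of_proper k Y
  have hM : ∀ i, PicF.IsInvertible (![A, B] i) := fun i => by fin_cases i <;> assumption
  rw [FGA29.intNum_eq_intE k hd hM Crv77.isCoh_structureModule,
    show ![A, B] = Fin.cons A (Fin.cons B ![]) from rfl,
    FGA29.intE_cons, FGA29.intE_cons, FGA29.intE_cons, FGA29.intE_zero, FGA29.intE_zero, FGA29.intE_zero,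
    FGA29.intE_zero,
    FGA29.euler_cl k (F := CohB1.tensorMod (Coh.structureModule Y) A) (G := A)
      (by rw [FGA29.cl_tensor, FGA29.cl_one, one_mul]),
    FGA29.euler_cl k (F := CohB1.tensorMod (Coh.structureModule Y) B) (G := B)
      (by rw [FGA29.cl_tensor, FGA29.cl_one, one_mul]),
    FGA29.euler_cl k (F := CohB1.tensorMod (CohB1.tensorMod (Coh.structureModule Y) A) B)
      (G := CohB1.tensorMod A B) (by rw [FGA29.cl_tensor, FGA29.cl_tensor, FGA29.cl_tensor, FGA29.cl_one, one_mul])]
  ring

end Groth.Agent.SurfInt93.PointBlow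

end
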