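import Groth.Agent.CAlg1.Regular
import Mathlib.RingTheory.Length
import Mathlib.RingTheory.Ideal.Cotangent

/-! Two-dimensional regular local rings: parameters and lengths of `R/m`, `R/m²`. -/

set_option autoImplicit false
set_option backward.isDefEq.respectTransparency false

noncomputable section

universe u

open IsLocalRing

namespace Groth.Agent.SurfInt93

variable (R : Type u) [CommRing R] [IsRegularLocalRing R]

theorem spanFinrank_eq_two (h : ringKrullDim R = 2) : (maximalIdeal R).spanFinrank = 2 := by
  have := IsRegularLocalRing.spanFinrank_maximalIdeal (R := R)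
  rw [h] at this
  exact_mod_cast this

/-- A regular system of parameters of length two. -/
theorem exists_params_two (h : ringKrullDim R = 2) :
    ∃ a b : R, Ideal.span ({a, b} : Set R) = maximalIdeal R ∧
      RingTheory.Sequence.IsRegular R [a, b] := by
  classical
  haveI : IsRegularLocalRing (R ⧸ maximalIdeal R) := inferInstanceAs (IsRegularLocalRing (ResidueField R))
  obtain ⟨x, c, hc, hx, -⟩ := CAlg1.exists_params_quotient R 2 (spanFinrank_eq_two R h) (maximalIdeal R)
  have hrange : Set.range x = {x 0, x 1} := by
    ext y
    constructor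
    · rintro ⟨i, rfl⟩
      fin_cases i <;> simp
    · rintro (rfl | rfl)
      · exact ⟨0, rfl⟩
      · exact ⟨1, rfl⟩
  refine ⟨x 0, x 1, hrange ▸ hx, ?_⟩
  have := CAlg1.isRegular_params (d := 2) (by rw [h]; norm_num) x hx
  simpa [List.ofFn_succ] using this

theorem length_quot_maximal : Module.length R (R ⧸ maximalIdeal R) = 1 := by
  haveI : IsSimpleModule R (R ⧸ maximalIdeal R) :=
    isSimpleModule_iff_isCoatom.2 (Ideal.isMaximal_def.1 inferInstance)
  exact Module.length_eq_one R _

theorem length_cotangent (h : ringKrullDim R = 2) :
    Module.length R (CotangentSpace R) = 2 := by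
  have hfr : Module.finrank (ResidueField R) (CotangentSpace R) = 2 := by
    rw [← spanFinrank_maximalIdeal_eq_finrank_cotangentSpace, spanFinrank_eq_two R h]
  haveI : Module.Finite (ResidueField R) (CotangentSpace R) :=
    Module.finite_of_finrank_eq_succ hfr
  rw [Module.length_eq_of_surjective (S := R) (R := ResidueField R) IsLocalRing.residue_surjective,
    Module.length_eq_finrank, hfr]
  rfl

theorem length_quot_sq (h : ringKrullDim R = 2) :
    Module.length R (R ⧸ maximalIdeal R ^ 2) = 3 := by
  let m := maximalIdeal R
  let g : (R ⧸ m ^ 2) →ₗ[R] R ⧸ m :=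
    Submodule.mapQ (m ^ 2) m LinearMap.id (by simpa using Ideal.pow_le_self two_ne_zero)
  have hg : Function.Surjective g := fun y => by
    obtain ⟨r, rfl⟩ := Submodule.Quotient.mk_surjective _ y
    exact ⟨Submodule.Quotient.mk r, rfl⟩
  have hex : Function.Exact m.cotangentToQuotientSquare g := by
    intro y
    obtain ⟨r, rfl⟩ := Submodule.Quotient.mk_surjective _ y
    rw [← LinearMap.coe_range, SetLike.mem_coe, Ideal.range_cotangentToQuotientSquare]
    show Submodule.Quotient.mk r = 0 ↔ _
    rw [Submodule.Quotient.mk_eq_zero]
    exact Ideal.mk_mem_cotangentIdeal.symm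
  rw [Module.length_eq_add_of_exact _ _ m.cotangentToQuotientSquare_injective hg hex,
    length_cotangent R h, length_quot_maximal]
  rfl

end Groth.Agent.SurfInt93

end
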